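import Mathlib

set_option autoImplicit false

/-! Abstract systems of transvections (flags) for McLaughlin's theorem. -/

namespace Cfsg.Agent.McL

open Module

variable {F V V' : Type*} [Field F] [AddCommGroup V] [Module F V] [AddCommGroup V'] [Module F V']

/-- A system of flags `(φ, v)` closed under the operations induced by a group generated by
full transvection groups and having no normal unipotent subgroup. -/
structure TS (b : V' →ₗ[F] V →ₗ[F] F) (T : V' → V → Prop) : Prop where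
  zero : ∀ {φ v}, T φ v → b φ v = 0
  zl : ∀ v, T 0 v
  zr : ∀ φ, T φ 0
  smul_l : ∀ {φ v} (c : F), T φ v → T (c • φ) v
  smul_r : ∀ {φ v} (c : F), T φ v → T φ (c • v)
  add_l : ∀ {φ ψ v}, T φ v → T ψ v → T (φ + ψ) v
  add_r : ∀ {φ v w}, T φ v → T φ w → T φ (v + w)
  conj : ∀ {φ v χ u}, T φ v → T χ u → T (φ - b φ u • χ) (v + b χ v • u)
  quad : ∀ {ρ z χ u}, T χ u → T (ρ - χ) (z + u) → T (ρ + χ) (z - u) → b ρ z = 0 → b ρ u = 0 →
    b χ z = 0 → T ρ z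
  rad : ∀ W : Submodule F V, (∀ χ u, T χ u → u ∈ W ∨ ∀ w ∈ W, b χ w = 0) →
    ∀ {φ v}, T φ v → v ∈ W → (∀ w ∈ W, b φ w = 0) → φ = 0 ∨ v = 0
  rad' : ∀ W : Submodule F V', (∀ u χ, T χ u → χ ∈ W ∨ ∀ w ∈ W, b w u = 0) →
    ∀ {v φ}, T φ v → φ ∈ W → (∀ w ∈ W, b w v = 0) → v = 0 ∨ φ = 0

theorem eq_zero_off_two (h2 : (2 : F) ≠ 0) {W : Submodule F V} {f g k : V →ₗ[F] F}
    (hg : ∃ w ∈ W, g w ≠ 0 ∧ k w ≠ 0) (H : ∀ w ∈ W, g w ≠ 0 → k w ≠ 0 → f w = 0) :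
    ∀ w ∈ W, f w = 0 := by
  obtain ⟨a, ha, g1, k1⟩ := hg
  intro w hw
  have fa := H a ha g1 k1
  have key : ∀ c : F, g w + c * g a ≠ 0 → k w + c * k a ≠ 0 → f w = 0 := fun c e1 e2 => by
    simpa [fa] using H (w + c • a) (W.add_mem hw (W.smul_mem c ha)) (by simpa using e1)
      (by simpa using e2)
  by_contra hn
  have k0 := mt (fun h : _ ∧ _ => key 0 h.1 h.2) hn
  have k1' := mt (fun h : _ ∧ _ => key 1 h.1 h.2) hn
  have k2 := mt (fun h : _ ∧ _ => key (-1) h.1 h.2) hn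
  simp only [not_and_or, not_not] at k0 k1' k2
  have t : ∀ x : F, x ≠ 0 → 2 * x ≠ 0 := fun x hx => mul_ne_zero h2 hx
  rcases k0 with k0 | k0 <;> rcases k1' with k1' | k1' <;> rcases k2 with k2 | k2
  all_goals first
    | exact g1 (by linear_combination k1' - k0)
    | exact g1 (by linear_combination k0 - k2)
    | exact k1 (by linear_combination k1' - k0)
    | exact k1 (by linear_combination k0 - k2)
    | exact t _ g1 (by linear_combination k1' - k2)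
    | exact t _ k1 (by linear_combination k1' - k2)

theorem exists_ne_ne_mem {W : Submodule F V} {g k : V →ₗ[F] F} (h1 : ∃ w ∈ W, g w ≠ 0)
    (h2 : ∃ w ∈ W, k w ≠ 0) : ∃ w ∈ W, g w ≠ 0 ∧ k w ≠ 0 := by
  obtain ⟨a, ha, ha'⟩ := h1
  obtain ⟨c, hc, hc'⟩ := h2
  by_cases e1 : k a = 0
  · by_cases e2 : g c = 0
    · exact ⟨a + c, W.add_mem ha hc, by simpa [e2] using ha', by simpa [e1] using hc'⟩
    · exact ⟨c, hc, e2, hc'⟩
  · exact ⟨a, ha, ha', e1⟩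

/-- the invariant subspace generated by `v` -/
def Wv (b : V' →ₗ[F] V →ₗ[F] F) (T : V' → V → Prop) (v : V) : Submodule F V :=
  Submodule.span F (insert v {u | ∃ χ, T χ u ∧ b χ v ≠ 0})

variable {b : V' →ₗ[F] V →ₗ[F] F} {T : V' → V → Prop} {φ ψ χ : V'} {v w u : V}

theorem self_mem_Wv (v : V) : v ∈ Wv b T v := Submodule.subset_span (Set.mem_insert _ _)

theorem adj_mem_Wv (h : T χ u) (h1 : b χ v ≠ 0) : u ∈ Wv b T v :=
  Submodule.subset_span (Set.mem_insert_of_mem _ ⟨χ, h, h1⟩)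

theorem Wv_cases (h : ¬ ∀ w ∈ Wv b T v, b ψ w = 0) :
    b ψ v ≠ 0 ∨ ∃ χ u, T χ u ∧ b χ v ≠ 0 ∧ b ψ u ≠ 0 := by
  by_contra hc
  push Not at hc
  refine h fun w hw => (Submodule.span_le (p := LinearMap.ker (b ψ))).mpr ?_ hw
  rintro x (rfl | ⟨χ, h1, h2⟩)
  · exact hc.1
  · exact hc.2 χ x h1 h2

theorem Wv_le {W : Submodule F V} (hW : ∀ χ u, T χ u → u ∈ W ∨ ∀ w ∈ W, b χ w = 0) (hv : v ∈ W) :
    Wv b T v ≤ W := by
  refine Submodule.span_le.mpr ?_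
  rintro x (rfl | ⟨χ, h1, h2⟩)
  · exact hv
  · exact (hW χ x h1).resolve_right fun h => h2 (h v hv)

namespace TS

theorem flip (h : TS b T) : TS b.flip fun v φ => T φ v where
  zero := h.zero
  zl := h.zr
  zr := h.zl
  smul_l := h.smul_r
  smul_r := h.smul_l
  add_l := h.add_r
  add_r := h.add_l
  conj h1 h2 := by
    have := h.conj h1 (h.smul_l (-1) h2)
    simpa [sub_eq_add_neg] using this
  quad h1 h2 h3 e1 e2 e3 := h.quad h1 h3 h2 e1 e3 e2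
  rad := h.rad'
  rad' := h.rad

variable (h : TS b T)
include h

theorem comm (h1 : T φ v) (h2 : T ψ w) (e1 : b ψ v = 0) (e2 : b φ w ≠ 0) : T ψ v := by
  have := h.smul_r (b φ w)⁻¹ (h.add_r (h.conj h2 h1) (by
    rw [e1, zero_smul, sub_zero]; exact h.smul_r (-1) h2))
  rw [e1, zero_smul, sub_zero] at this
  convert this using 1
  rw [show w + b φ w • v + (-1 : F) • w = b φ w • v by module, smul_smul, inv_mul_cancel₀ e2,
    one_smul]

theorem conj_ne (h2 : T χ u) (h0 : φ ≠ 0) : φ - b φ u • χ ≠ 0 := fun e => by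
  have e1 := sub_eq_zero.mp e
  have : b φ u = 0 := by
    conv_lhs => rw [e1]
    simp [h.zero h2]
  rw [this, zero_smul] at e1
  exact h0 e1

theorem adj_add (h1 : T φ v) (h0 : φ ≠ 0) (h2 : T χ u) (e : b χ v ≠ 0) (c : F) :
    ∃ ρ, ρ ≠ 0 ∧ T ρ (v + c • u) := by
  have h3 := h.smul_r (c / b χ v) h2
  refine ⟨_, h.conj_ne h3 h0, ?_⟩
  convert h.conj h1 h3 using 2
  rw [smul_smul, mul_div_cancel₀ _ e]

theorem inv (v : V) : ∀ χ u, T χ u → u ∈ Wv b T v ∨ ∀ w ∈ Wv b T v, b χ w = 0 := by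
  intro χ u h1
  refine or_iff_not_imp_right.mpr fun hn => ?_
  by_cases e : b χ v = 0
  swap
  · exact adj_mem_Wv h1 e
  obtain ⟨χ1, u1, t1, e1, e2⟩ := (Wv_cases hn).resolve_left (not_not.mpr e)
  have m1 := adj_mem_Wv (b := b) (v := v) (h.conj t1 h1) (by simpa [e] using e1)
  have := (Wv b T v).smul_mem (b χ u1)⁻¹ ((Wv b T v).sub_mem m1 (adj_mem_Wv t1 e1))
  rwa [add_sub_cancel_left, smul_smul, inv_mul_cancel₀ e2, one_smul] at this

theorem not_perp (h1 : T ψ w) (h2 : ψ ≠ 0) (h3 : w ≠ 0) (hw : w ∈ Wv b T v) :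
    ¬ ∀ x ∈ Wv b T v, b ψ x = 0 := fun e => (h.rad _ (h.inv v) h1 hw e).elim h2 h3

theorem partner (h1 : T φ v) (h2 : φ ≠ 0) (h3 : v ≠ 0) :
    ∃ χ u, T χ u ∧ b χ v ≠ 0 ∧ b φ u ≠ 0 :=
  (Wv_cases (h.not_perp h1 h2 h3 (self_mem_Wv v))).resolve_left (not_not.mpr (h.zero h1))

theorem Wv_eq (h1 : T φ v) (h2 : φ ≠ 0) (k1 : T ψ w) (k2 : ψ ≠ 0) (k3 : w ≠ 0)
    (hw : w ∈ Wv b T v) : Wv b T w = Wv b T v := by
  refine le_antisymm (Wv_le (h.inv v) hw) (Wv_le (h.inv w) ?_)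
  by_contra hv
  have p := (h.inv w φ v h1).resolve_left hv
  rcases Wv_cases (h.not_perp k1 k2 k3 hw) with e | ⟨χ, u, t, e1, e2⟩
  · exact h.not_perp (h.comm k1 h1 (p w (self_mem_Wv w)) e) h2 k3 (self_mem_Wv w) p
  · rcases h.inv w χ u t with hu | hu
    · exact h.not_perp (h.comm t h1 (p u hu) e1) h2 (by rintro rfl; simp at e2) hu p
    · exact h.not_perp (h.comm k1 t (hu w (self_mem_Wv w)) e2) (by rintro rfl; simp at e1) k3
        (self_mem_Wv w) hu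

theorem path2 (h1 : T φ v) (h2 : φ ≠ 0) (k1 : T ψ w) (k2 : ψ ≠ 0) (t : T χ u) (e1 : b χ v ≠ 0)
    (e2 : b ψ u ≠ 0) : ∃ ρ, ρ ≠ 0 ∧ T ρ (v + w) := by
  by_cases c1 : b ψ v = 0
  swap
  · simpa using h.adj_add h1 h2 k1 c1 1
  by_cases c2 : b φ w = 0
  swap
  · simpa [add_comm] using h.adj_add k1 k2 h1 c2 1
  by_cases c3 : b χ (v + w) = 0
  swap
  · obtain ⟨φ1, p1, p2⟩ := h.adj_add h1 h2 t e1 (b χ (v + w))
    obtain ⟨σ, p3, p4⟩ := h.adj_add p2 p1 k1 (by simpa [c1, e2] using c3) 1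
    have t' := h.smul_l (-1) t
    refine ⟨_, h.conj_ne t' p3, ?_⟩
    convert h.conj p4 t' using 1
    simp only [map_add, map_smul, LinearMap.smul_apply, h.zero t]
    module
  have c4 : b χ w = -b χ v := by rw [map_add] at c3; linear_combination c3
  have key : ∀ c : F, c ≠ 0 →
      T (φ - (b φ u / b ψ u) • ψ - c • b φ u • χ) (v + w + c • b χ v • u) := by
    intro c hc
    have := h.conj (h.conj h1 (h.smul_r c t)) (h.smul_r (c * b χ v * b ψ u)⁻¹ k1)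
    convert this using 1
    · simp only [map_sub, map_smul, LinearMap.sub_apply, LinearMap.smul_apply, c2, c4, smul_eq_mul]
      match_scalars <;> (field_simp; try ring)
    · simp only [map_add, map_smul, c1, smul_eq_mul]
      match_scalars <;> (field_simp; try ring)
  have q := h.quad (ρ := φ - (b φ u / b ψ u) • ψ) (z := v + w)
    (h.smul_r (b χ v) (h.smul_l (b φ u) t)) (by simpa using key 1 one_ne_zero)
    (by simpa [sub_eq_add_neg] using key (-1) (neg_ne_zero.mpr one_ne_zero))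
    (by simp [h.zero h1, h.zero k1, c1, c2]) (by simp [e2]) (by simp only [map_smul,
      LinearMap.smul_apply, c3, smul_zero])
  by_cases c5 : φ - (b φ u / b ψ u) • ψ = 0
  · refine ⟨φ, h2, h.add_r h1 ?_⟩
    rw [sub_eq_zero.mp c5]; exact h.smul_l _ k1
  · exact ⟨_, c5, q⟩

theorem exists_axis (h1 : T φ v) (h2 : φ ≠ 0) (hw : w ∈ Wv b T v) : ∃ ρ, ρ ≠ 0 ∧ T ρ w := by
  induction hw using Submodule.span_induction with
  | mem x hx =>
    rcases hx with rfl | ⟨χ, t, e⟩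
    · exact ⟨φ, h2, h1⟩
    · exact ⟨χ, by rintro rfl; simp at e, t⟩
  | zero => exact ⟨φ, h2, h.zr φ⟩
  | add x y hx hy ihx ihy =>
    obtain ⟨σ, s0, s1⟩ := ihx
    obtain ⟨τ, t0, t1⟩ := ihy
    by_cases x0 : x = 0
    · exact ⟨τ, t0, by simpa [x0] using t1⟩
    by_cases y0 : y = 0
    · exact ⟨σ, s0, by simpa [y0] using s1⟩
    have hy' : y ∈ Wv b T x := by rw [h.Wv_eq h1 h2 s1 s0 x0 hx]; exact hy
    rcases Wv_cases (h.not_perp t1 t0 y0 hy') with e | ⟨χ, u, t, e1, e2⟩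
    · simpa using h.adj_add s1 s0 t1 e 1
    · exact h.path2 s1 s0 t1 t0 t e1 e2
  | smul c x _ ih =>
    obtain ⟨σ, s0, s1⟩ := ih
    exact ⟨σ, s0, h.smul_r c s1⟩

theorem orb {Q : V → Prop}
    (q2 : ∀ χ u x, T χ u → Q x → Q (x + b χ x • u)) (h1 : T φ v) (h2 : φ ≠ 0)
    (hv : Q v) (hw : w ∈ Wv b T v) (w0 : w ≠ 0) : Q w := by
  have s0 : ∀ {χ u x}, T χ u → b χ x ≠ 0 → Q x → Q (x + u) := fun {χ u x} t e q => by
    have := q2 _ _ x (h.smul_r (b χ x)⁻¹ t) q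
    rwa [smul_smul, mul_inv_cancel₀ e, one_smul] at this
  have s1 : ∀ {σ x χ u}, T σ x → T χ u → b χ x ≠ 0 → b σ u ≠ 0 → Q x → Q u := by
    intro σ x χ u t1 t2 e1 e2 q
    have := s0 (h.smul_r (-1) t1) (by simpa [h.zero t1] using e2) (s0 t2 e1 q)
    convert this using 1; module
  have s2 : ∀ {σ x χ u}, T σ x → σ ≠ 0 → T χ u → u ≠ 0 → b χ x ≠ 0 → Q x → Q u := by
    intro σ x χ u t1 σ0 t2 u0 e1 q
    by_cases e2 : b σ u = 0
    swap
    · exact s1 t1 t2 e1 e2 q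
    have t3 := h.comm t2 t1 e2 e1
    obtain ⟨τ, z, t4, e3, e4⟩ := h.partner t3 σ0 u0
    refine s1 t4 t3 e4 e3 ?_
    by_cases e5 : b τ x = 0
    · exact s1 (h.add_r t1 t3) t4 (by simpa [e5] using e3) e4 (s0 t2 e1 q)
    · exact s1 t1 t4 e5 e4 q
  obtain ⟨ψ, ψ0, k1⟩ := h.exists_axis h1 h2 hw
  rcases Wv_cases (h.not_perp k1 ψ0 w0 hw) with e | ⟨χ, u, t, e1, e2⟩
  · exact s2 h1 h2 k1 w0 e hv
  · exact s2 t (by rintro rfl; simp at e1) k1 w0 e2
      (s2 h1 h2 t (by rintro rfl; simp at e2) e1 hv)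

/-- the axes of a centre -/
def axes (y : V) : Submodule F V' where
  carrier := {φ | T φ y}
  zero_mem' := h.zl y
  add_mem' := h.add_l
  smul_mem' c _ := h.smul_l c

theorem symm [FiniteDimensional F V'] {σ : V'} {y : V} (h1 : T σ y) (h2 : σ ≠ 0) (k1 : T χ w)
    (w0 : w ≠ 0) (e : b χ y ≠ 0) : ∃ σ, T σ y ∧ b σ w ≠ 0 := by
  by_contra hc
  push Not at hc
  have χ0 : χ ≠ 0 := by rintro rfl; simp at e
  have lt : h.axes y < h.axes w :=
    lt_of_le_of_ne (fun τ t => h.comm k1 t (hc τ t) e) fun e1 =>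
      e (h.zero (show χ ∈ h.axes y from e1 ▸ k1))
  have := h.orb (Q := fun x => finrank F (h.axes w) ≤ finrank F (h.axes x))
    (fun χ u x t q => q.trans (by
      refine LinearMap.finrank_le_finrank_of_injective (f := LinearMap.restrict
        (LinearMap.id - (b.flip u).smulRight χ) (p := h.axes x) (q := h.axes _)
        fun τ tτ => h.conj tτ t) ?_
      rw [injective_iff_map_eq_zero]
      intro τ e
      by_contra h0
      exact h.conj_ne t (fun e' => h0 (Subtype.ext e')) (congrArg Subtype.val e)))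
    k1 χ0 le_rfl (w := y) (by
      rw [h.Wv_eq h1 h2 k1 χ0 w0 (adj_mem_Wv k1 e)]; exact self_mem_Wv y)
    (by rintro rfl; simp at e)
  exact absurd (Submodule.finrank_lt_finrank_of_lt lt) (not_lt.mpr this)

theorem link (h1 : T φ v) (h2 : φ ≠ 0) (h3 : v ≠ 0) (t : T χ u) (χ0 : χ ≠ 0) (u0 : u ≠ 0)
    (hu : u ∈ Wv b T v) : χ ∈ Wv b.flip (fun v φ => T φ v) φ := by
  have hv : v ∈ Wv b T u := by rw [h.Wv_eq h1 h2 t χ0 u0 hu]; exact self_mem_Wv v
  rcases Wv_cases (h.not_perp h1 h2 h3 hv) with e | ⟨σ, y, t1, e1, e2⟩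
  · exact adj_mem_Wv (b := b.flip) (T := fun v φ => T φ v) t e
  · exact (h.flip.inv φ u χ t).resolve_right fun k =>
      e1 (k σ (adj_mem_Wv (b := b.flip) (T := fun v φ => T φ v) t1 e2))

theorem nondeg (h1 : T φ v) (h2 : φ ≠ 0) (h3 : v ≠ 0) (hχ : χ ∈ Wv b.flip (fun v φ => T φ v) φ)
    (e : ∀ w ∈ Wv b T v, b χ w = 0) : χ = 0 := by
  by_contra χ0
  obtain ⟨u, u0, t⟩ := h.flip.exists_axis h1 h3 hχ
  exact h.not_perp t χ0 u0 (h.flip.link h1 h3 h2 t u0 χ0 hχ) e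

theorem rep [FiniteDimensional F V] [FiniteDimensional F V'] (h1 : T φ v) (h2 : φ ≠ 0)
    (h3 : v ≠ 0) (f : Wv b T v →ₗ[F] F) :
    ∃ χ ∈ Wv b.flip (fun v φ => T φ v) φ, ∀ w : Wv b T v, b χ w = f w := by
  let B := b.domRestrict₁₂ (Wv b.flip (fun v φ => T φ v) φ) (Wv b T v)
  have i1 : Function.Injective B := by
    rw [injective_iff_map_eq_zero]
    intro χ e
    exact Subtype.ext (h.nondeg h1 h2 h3 χ.2 fun w hw => LinearMap.congr_fun e ⟨w, hw⟩)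
  have i2 : Function.Injective B.flip := by
    rw [injective_iff_map_eq_zero]
    intro x e
    exact Subtype.ext (h.flip.nondeg h1 h3 h2 x.2 fun w hw => LinearMap.congr_fun e ⟨w, hw⟩)
  have l1 := LinearMap.finrank_le_finrank_of_injective i1
  have l2 := LinearMap.finrank_le_finrank_of_injective i2
  rw [Subspace.dual_finrank_eq] at l2
  obtain ⟨χ, e⟩ := (LinearMap.injective_iff_surjective_of_finrank_eq_finrank (le_antisymm l1
    (by rwa [Subspace.dual_finrank_eq]))).mp i1 f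
  exact ⟨χ, χ.2, fun w => LinearMap.congr_fun e w⟩

theorem sl_case [FiniteDimensional F V] {φ0 : V'} {v0 : V} (h1 : T φ0 v0) (h2 : φ0 ≠ 0)
    (h3 : v0 ≠ 0) (t1 : T φ v) (t2 : T ψ w) (φ0' : φ ≠ 0) (w0 : w ≠ 0) (hw : w ∈ Wv b T v0)
    (e1 : b φ w = 0) (e2 : b ψ v ≠ 0) {y : V} (hy : y ∈ Wv b T v0) :
    ∀ ρ ∈ Wv b.flip (fun v φ => T φ v) φ0, b ρ y = 0 → T ρ y := by
  by_cases y0 : y = 0
  · intro ρ _ _; rw [y0]; exact h.zr ρ
  have ψ0 : ψ ≠ 0 := by rintro rfl; simp at e2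
  have t3 := h.comm t2 t1 e1 e2
  have k : ∀ ρ ∈ Wv b.flip (fun v φ => T φ v) φ0, b ρ w = 0 → b ρ v ≠ 0 → T ρ w := by
    intro ρ hρ r1 r2
    obtain ⟨u, u0, t⟩ := h.flip.exists_axis h1 h3 hρ
    obtain ⟨u', t', e⟩ := h.flip.symm t u0 t1 φ0' r2
    exact h.comm t3 t' r1 e
  refine h.orb (Q := fun y => ∀ ρ ∈ Wv b.flip (fun v φ => T φ v) φ0, b ρ y = 0 → T ρ y)
    (fun χ u x t q ρ hρ e => ?_) t2 ψ0 (fun ρ hρ e => ?_)
    (by rwa [h.Wv_eq h1 h2 t2 ψ0 w0 hw]) y0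
  · have hm : ρ + b ρ u • χ ∈ Wv b.flip (fun v φ => T φ v) φ0 := by
      rcases h.flip.inv φ0 u χ t with k | k
      · exact Submodule.add_mem _ hρ (Submodule.smul_mem _ _ k)
      · rw [show b ρ u = 0 from k ρ hρ, zero_smul, add_zero]; exact hρ
    have := h.conj (q _ hm (by simpa [mul_comm] using e)) t
    simpa [h.zero t] using this
  · by_cases r : b ρ v = 0
    · have := h.add_l (k _ (Submodule.add_mem _ hρ (h.link h1 h2 h3 t2 ψ0 w0 hw))
        (by simp [e, h.zero t2]) (by simpa [r] using e2)) (h.smul_l (-1) t2)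
      simpa using this
    · exact k ρ hρ e r

theorem sp_case (two : (2 : F) ≠ 0) {φ0 : V'} {v0 : V} (h1 : T φ0 v0) (h2 : φ0 ≠ 0) (h3 : v0 ≠ 0)
    (H : ∀ φ v ψ w, T φ v → T ψ w → φ ≠ 0 → w ≠ 0 → w ∈ Wv b T v0 → b φ w = 0 → b ψ v = 0) :
    ∃ B : Wv b T v0 →ₗ[F] Wv b T v0 →ₗ[F] F, ∀ ψ (v : Wv b T v0), T ψ v → ψ ≠ 0 → v ≠ 0 →
      ∃ c : F, c ≠ 0 ∧ ∀ u : Wv b T v0, B v u = c * b ψ u := by
  have hs : ∀ {φ v ψ w}, T φ v → T ψ w → v ∈ Wv b T v0 → b φ w ≠ 0 → v ≠ 0 → b ψ v ≠ 0 ∨ ψ = 0 := by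
    intro φ v ψ w t1 t2 hv e v0'
    by_contra hc
    push Not at hc
    exact e (H ψ w φ v t2 t1 hc.2 v0' hv hc.1)
  have tri : ∀ {φ v χ u ψ w}, T φ v → T χ u → T ψ w → φ ≠ 0 → ψ ≠ 0 → w ≠ 0 → u ∈ Wv b T v0 →
      w ∈ Wv b T v0 → b φ u ≠ 0 → b χ w ≠ 0 →
      b φ u * b χ w * b ψ v = -(b φ w * b ψ u * b χ v) := by
    intro φ v χ u ψ w t1 t2 t3 p1 p2 p3 m1 m2 e1 e2
    have t4 := h.smul_r (-(b φ w / (b χ w * b φ u))) t2
    have := H _ _ _ _ t1 (h.conj t3 t4) p1 (h.flip.conj_ne (h.smul_l (-1) t4) p3 ∘ fun e => by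
      simpa [sub_eq_add_neg] using e) (Submodule.add_mem _ m2 (Submodule.smul_mem _ _ (Submodule.smul_mem _ _ m1)))
      (by simp only [map_add, map_smul, smul_eq_mul]; field_simp; ring)
    simp only [map_sub, map_smul, LinearMap.sub_apply, LinearMap.smul_apply, smul_eq_mul] at this
    field_simp at this
    linear_combination this
  have nrm : ∀ u ∈ Wv b T v0, b φ0 u ≠ 0 → ∃ χ, χ ≠ 0 ∧ T χ u ∧ b χ v0 = -b φ0 u := by
    intro u hu e
    obtain ⟨χ, χ0, t⟩ := h.exists_axis h1 h2 hu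
    have e1 := (hs h1 t (self_mem_Wv v0) e h3).resolve_right χ0
    exact ⟨(-b φ0 u / b χ v0) • χ, smul_ne_zero (div_ne_zero (neg_ne_zero.mpr e) e1) χ0,
      h.smul_l _ t, by simp only [map_smul, LinearMap.smul_apply, smul_eq_mul]; field_simp⟩
  choose! X X0 XT Xn using nrm
  have ne0 : ∀ {u}, b φ0 u ≠ 0 → u ≠ 0 := by rintro u e rfl; simp at e
  have cp : ∀ u ∈ Wv b T v0, b φ0 u ≠ 0 → ∀ u' ∈ Wv b T v0, b φ0 u' ≠ 0 →
      b (X u) u' = -b (X u') u := by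
    intro u hu e u' hu' e'
    by_cases c : b (X u) u' = 0
    · rw [c, H _ _ _ _ (XT u hu e) (XT u' hu' e') (X0 u hu e) (ne0 e') hu' c, neg_zero]
    have := tri h1 (XT u hu e) (XT u' hu' e') h2 (X0 u' hu' e') (ne0 e') hu hu' e c
    rw [Xn u hu e, Xn u' hu' e'] at this
    apply mul_left_cancel₀ (mul_ne_zero e e')
    linear_combination -this
  obtain ⟨u0, hu0, e0⟩ : ∃ u ∈ Wv b T v0, b φ0 u ≠ 0 := by
    have := h.not_perp h1 h2 h3 (self_mem_Wv v0)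
    push Not at this; exact this
  have lam : ∀ v ∈ Wv b T v0, ∃ l : V', ∀ u ∈ Wv b T v0, b φ0 u ≠ 0 → b l u = -b (X u) v := by
    intro v hv
    by_cases c : b φ0 v = 0
    · refine ⟨X (v + u0) - X u0, fun u hu e => ?_⟩
      rw [map_sub, LinearMap.sub_apply, cp _ (Submodule.add_mem _ hv hu0) (by simpa [c] using e0)
        u hu e, cp u0 hu0 e0 u hu e, map_add]
      ring
    · exact ⟨X v, cp v hv c⟩
  choose! L hL using lam
  have ext : ∀ {l l' : V'}, (∀ u ∈ Wv b T v0, b φ0 u ≠ 0 → b l u = b l' u) →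
      ∀ u ∈ Wv b T v0, b l u = b l' u := fun {l l'} k u hu =>
    sub_eq_zero.mp (eq_zero_off_two two (f := b l - b l') ⟨u0, hu0, e0, e0⟩
      (fun w hw e _ => sub_eq_zero.mpr (k w hw e)) u hu)
  refine ⟨LinearMap.mk₂ F (fun v u => b (L v) u) (fun v v' u => ?_) (fun c v u => ?_)
    (fun v u u' => map_add _ _ _) (fun c v u => map_smul _ _ _), fun ψ v t ψ0 v0' => ?_⟩
  · refine (ext (l' := L v + L v') (fun u hu e => ?_) u u.2).trans (by simp)
    rw [map_add, LinearMap.add_apply, hL _ (v + v').2 u hu e, hL _ v.2 u hu e, hL _ v'.2 u hu e,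
      Submodule.coe_add, map_add, neg_add]
  · refine (ext (l' := c • L v) (fun u hu e => ?_) u u.2).trans (by simp)
    rw [map_smul, LinearMap.smul_apply, hL _ (c • v).2 u hu e, hL _ v.2 u hu e,
      Submodule.coe_smul, map_smul, smul_neg]
  · have v1 : (v : V) ≠ 0 := fun e => v0' (Subtype.ext e)
    obtain ⟨u1, hu1, e1, e2⟩ := exists_ne_ne_mem (g := b φ0) (k := b ψ) ⟨u0, hu0, e0⟩ (by
      have := h.not_perp t ψ0 v1 v.2
      push Not at this; exact this)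
    have e3 := (hs t (XT u1 hu1 e1) v.2 e2 v1).resolve_right (X0 u1 hu1 e1)
    refine ⟨-b (X u1) v / b ψ u1, div_ne_zero (neg_ne_zero.mpr e3) e2, fun u => ?_⟩
    refine sub_eq_zero.mp (eq_zero_off_two two (f := b (L v) - (-b (X u1) v / b ψ u1) • b ψ)
      (g := b φ0) (k := b (X u1)) (exists_ne_ne_mem ⟨u0, hu0, e0⟩ ⟨v, v.2, e3⟩)
      (fun w hw p1 p2 => ?_) u u.2)
    have := tri t (XT u1 hu1 e1) (XT w hw p1) ψ0 (X0 w hw p1) (ne0 p1) hu1 hw e2 p2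
    rw [cp w hw p1 u1 hu1 e1] at this
    simp only [LinearMap.sub_apply, LinearMap.smul_apply, hL _ v.2 w hw p1, smul_eq_mul]
    field_simp
    apply mul_left_cancel₀ p2
    linear_combination -this

end TS

end Cfsg.Agent.McL
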