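import Mathlib
import Cfsg.Agent.McL.Abs
import Cfsg.Agent.Class.Max.Lin
import Cfsg.Agent.Class.Sp.Abstract
import Cfsg.Agent.Class.Sp.Gen

set_option autoImplicit false
set_option linter.unusedSectionVars false

/-! McLaughlin's theorem on groups generated by full transvection groups (characteristic not 2). -/

namespace Cfsg.Agent.McL

open Module Cfsg.Agent.Class.Max

variable {F V : Type*} [Field F] [AddCommGroup V] [Module F V] [FiniteDimensional F V]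

/-- the isometry group of a bilinear form -/
def isoB (B : LinearMap.BilinForm F V) : Subgroup (V ≃ₗ[F] V) where
  carrier := {k | ∀ x y, B (k x) (k y) = B x y}
  mul_mem' {a b} ha hb x y := by rw [mul_app, mul_app, ha, hb]
  one_mem' x y := rfl
  inv_mem' {a} ha x y := by rw [← ha, app_inv_app, app_inv_app]

theorem sp_le_of_tv (B : LinearMap.BilinForm F V) (hA : B.IsAlt)
    (hB : ∀ x, (∀ y, B x y = 0) → x = 0) {M : Subgroup (V ≃ₗ[F] V)}
    (h : ∀ (v : V) (c : F), HasTv M (B v) (c • v)) {g : V ≃ₗ[F] V}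
    (hg : ∀ x y, B (g x) (g y) = B x y) : g ∈ M := by
  obtain ⟨m, -, hm, -⟩ := Class.exists_symplectic_basis B hA hB
  obtain ⟨e, he⟩ := Class.Sp.exists_isometry_std B hA hB hm
  let φ : Matrix.symplecticGroup (Fin m) F →* ((Fin m ⊕ Fin m → F) ≃ₗ[F] (Fin m ⊕ Fin m → F)) :=
    DistribMulAction.toModuleAut F _
  let ψ : Matrix.symplecticGroup (Fin m) F →* (V ≃ₗ[F] V) :=
    MonoidHom.mk' (fun s => e.trans ((φ s).trans e.symm)) fun s t => LinearEquiv.ext fun x => by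
      simp
  have hψ : ∀ s x, e (ψ s x) = s • e x := fun s x => e.apply_symm_apply _
  have h1 : M.comap ψ = ⊤ := Class.Sp.eq_top_of_tv_mem fun w c => by
    obtain ⟨w, rfl⟩ := e.surjective w
    obtain ⟨t, ht, et⟩ := h w (-c)
    rw [Subgroup.mem_comap, show ψ _ = t from LinearEquiv.ext fun x => e.injective (by
      rw [hψ, Class.Sp.tv_smul, he, et, ← hA.neg_eq, map_add, map_smul, map_smul]; module)]
    exact ht
  obtain ⟨f, hf⟩ := Class.Sp.exists_hom_of_rep (fun x y => B x y) e he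
    ((LinearEquiv.automorphismGroup.toLinearMapMonoidHom).comp (isoB B).subtype) fun k => k.2
  have h2 : f ⟨g, hg⟩ ∈ M.comap ψ := h1 ▸ Subgroup.mem_top _
  rwa [Subgroup.mem_comap, show ψ _ = g from LinearEquiv.ext fun x => e.injective
    ((hψ _ _).trans (hf ⟨g, hg⟩ x))] at h2

/-- restriction to an invariant subspace -/
def res (W : Submodule F V) : stab W →* (W ≃ₗ[F] W) :=
  MonoidHom.mk' (fun g => g.1.ofSubmodules W W (mem_stab_iff_map.mp g.2)) fun _ _ =>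
    LinearEquiv.ext fun _ => Subtype.ext rfl

theorem res_apply (W : Submodule F V) (g : stab W) (x : W) : (res W g x : V) = g.1 x := rfl

/-- flags of transvections in `H` -/
def Tv (H : Subgroup (V ≃ₗ[F] V)) (φ : Dual F V) (v : V) : Prop := φ v = 0 ∧ HasTv H φ v

/-- the transvections of `H` with centre in `W` -/
def KW (H : Subgroup (V ≃ₗ[F] V)) (W : Submodule F V) : Subgroup (V ≃ₗ[F] V) :=
  Subgroup.closure {g | ∃ χ u, Tv H χ u ∧ u ∈ W ∧ ∀ x, g x = x + χ x • u}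

/-- the fixed space of `KW` -/
def CW (H : Subgroup (V ≃ₗ[F] V)) (W : Submodule F V) : Submodule F V where
  carrier := {x | ∀ χ u, Tv H χ u → u ∈ W → χ x • u = 0}
  zero_mem' χ u _ _ := by simp
  add_mem' {x y} hx hy χ u t hu := by rw [map_add, add_smul, hx χ u t hu, hy χ u t hu, add_zero]
  smul_mem' c x hx χ u t hu := by rw [map_smul, smul_eq_mul, mul_smul, hx χ u t hu, smul_zero]

/-- hypotheses of McLaughlin's theorem -/
structure Hyp (H : Subgroup (V ≃ₗ[F] V)) : Prop where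
  two : (2 : F) ≠ 0
  gen : H ≤ KW H ⊤
  smul : ∀ φ v (c : F), φ v = 0 → HasTv H φ v → HasTv H φ (c • v)
  unip : ∀ W : Submodule F V, H ≤ stab W → ∀ g ∈ H, (∀ x, g x - x ∈ W) → (∀ w ∈ W, g w = w) → g = 1

/-- the components -/
def Comp (H : Subgroup (V ≃ₗ[F] V)) (W : Submodule F V) : Prop :=
  W = ⊥ ∨ ∃ φ v, Tv H φ v ∧ φ ≠ 0 ∧ v ≠ 0 ∧ W = Wv LinearMap.id (Tv H) v

variable {H : Subgroup (V ≃ₗ[F] V)} {W W' : Submodule F V}

theorem tv_mem {χ : Dual F V} {u : V} (t : Tv H χ u) {g : V ≃ₗ[F] V}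
    (e : ∀ x, g x = x + χ x • u) : g ∈ H := by
  obtain ⟨s, hs, e'⟩ := t.2
  rwa [show g = s from LinearEquiv.ext fun x => by rw [e, e']]

theorem KW_le : KW H W ≤ H := (Subgroup.closure_le _).mpr (by
  rintro g ⟨χ, u, t, -, e⟩
  exact tv_mem t e)

theorem KW_fix {g : V ≃ₗ[F] V} (hg : g ∈ KW H W) {x : V} (hx : x ∈ CW H W) : g x = x := by
  refine (Subgroup.closure_le (MulAction.stabilizer (V ≃ₗ[F] V) x)).mpr ?_ hg
  rintro g ⟨χ, u, t, hu, e⟩
  exact (e x).trans (by rw [hx χ u t hu, add_zero])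

theorem KW_move {g : V ≃ₗ[F] V} (hg : g ∈ KW H W) (x : V) : g x - x ∈ W := by
  induction hg using Subgroup.closure_induction generalizing x with
  | mem g hg =>
    obtain ⟨χ, u, -, hu, e⟩ := hg
    rw [e, add_sub_cancel_left]; exact W.smul_mem _ hu
  | one => simp
  | mul a b _ _ ha hb => simpa [mul_app] using W.add_mem (ha (b x)) (hb x)
  | inv a _ ha => simpa using W.neg_mem (ha (a⁻¹ x))

theorem Tv.conj {χ : Dual F V} {u : V} (t : Tv H χ u) {g : V ≃ₗ[F] V} (hg : g ∈ H) :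
    Tv H (χ ∘ₗ (g⁻¹ : V ≃ₗ[F] V).toLinearMap) (g u) :=
  ⟨by simpa using t.1, t.2.conj hg⟩

theorem KW_conj (hW : H ≤ stab W) {g k : V ≃ₗ[F] V} (hg : g ∈ H) (hk : k ∈ KW H W) :
    g * k * g⁻¹ ∈ KW H W := by
  induction hk using Subgroup.closure_induction with
  | mem k hk =>
    obtain ⟨χ, u, t, hu, e⟩ := hk
    exact Subgroup.subset_closure ⟨_, _, t.conj hg, stab_apply (hW hg) hu, fun x => by
      simp [e]⟩
  | one => simp
  | mul a b _ _ ha hb => simpa [mul_assoc] using mul_mem ha hb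
  | inv a _ ha => simpa [mul_assoc] using inv_mem ha

namespace Hyp

variable (h : Hyp H)
include h

theorem le_stab (hW : ∀ χ u, Tv H χ u → u ∈ W ∨ ∀ w ∈ W, χ w = 0) : H ≤ stab W :=
  h.gen.trans ((Subgroup.closure_le _).mpr (by
    rintro g ⟨χ, u, t, -, e⟩
    refine mem_stab_of_mapsTo fun v hv => ?_
    rw [e]
    rcases hW χ u t with k | k
    · exact W.add_mem hv (W.smul_mem _ k)
    · simpa [k v hv] using hv))

theorem rad (W : Submodule F V) (hW : ∀ χ u, Tv H χ u → u ∈ W ∨ ∀ w ∈ W, χ w = 0)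
    {φ : Dual F V} {v : V} (t : Tv H φ v) (hv : v ∈ W) (hφ : ∀ w ∈ W, φ w = 0) :
    φ = 0 ∨ v = 0 := by
  obtain ⟨g, hg, e⟩ := t.2
  have := h.unip W (h.le_stab hW) g hg (fun x => by rw [e]; simpa using W.smul_mem _ hv)
    (fun w hw => by simp [e, hφ w hw])
  refine or_iff_not_imp_right.mpr fun v0 => LinearMap.ext fun x => ?_
  have e1 := e x
  rw [this, one_app, left_eq_add] at e1
  exact (smul_eq_zero.mp e1).resolve_right v0

theorem ts : TS LinearMap.id (Tv H) where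
  zero t := t.1
  zl v := ⟨rfl, hasTv_zero_left v⟩
  zr φ := ⟨map_zero φ, hasTv_zero_right φ⟩
  smul_l c t := ⟨by simp [t.1], (hasTv_smul_iff c).mpr (h.smul _ _ c t.1 t.2)⟩
  smul_r c t := ⟨by simp [t.1], h.smul _ _ c t.1 t.2⟩
  add_l t t' := ⟨by simp [t.1, t'.1], t.2.add_left t.1 t'.2⟩
  add_r t t' := ⟨by simp [t.1, t'.1], t.2.add_right t'.1 t'.2⟩
  conj {φ v χ u} t t' := by
    obtain ⟨g, hg, e⟩ := t'.2
    have := t.conj hg
    rw [e] at this
    change Tv H (φ - φ u • χ) (v + χ v • u)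
    rwa [show φ - φ u • χ = φ ∘ₗ (g⁻¹ : V ≃ₗ[F] V).toLinearMap from LinearMap.ext fun x => by
      have : g⁻¹ x = x - χ x • u := g.injective (by rw [app_inv_app, e]; simp [t'.1])
      change _ = φ (g⁻¹ x)
      rw [this]; simp [mul_comm]]
  quad {ρ z χ u} t t1 t2 e1 e2 e3 := by
    obtain ⟨g, hg, e⟩ := t.2
    obtain ⟨g1, hg1, k1⟩ := t1.2
    obtain ⟨g2, hg2, k2⟩ := t2.2
    simp only [LinearMap.id_apply] at e1 e2 e3
    have : HasTv H ((2 : F) • ρ) z := ⟨g1 * (g2 * (g * g)), mul_mem hg1 (mul_mem hg2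
      (mul_mem hg hg)), fun x => by
        simp only [mul_app, k1, k2, e, map_add, map_sub, map_smul, LinearMap.add_apply,
          LinearMap.sub_apply, LinearMap.smul_apply, e1, e2, e3, t.1, smul_eq_mul]
        module⟩
    exact ⟨e1, (h.smul _ _ 2⁻¹ (by simp [e1]) this).congr fun x => by
      simp only [LinearMap.smul_apply, smul_eq_mul, smul_smul]
      congr 1; have := h.two; field_simp⟩
  rad W hW _ _ t hv hφ := h.rad W hW t hv hφ
  rad' W hW _ _ t hv hφ := (h.rad W.dualCoannihilator (fun χ u t => (hW u χ t).symm.imp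
    (Submodule.mem_dualCoannihilator _).mpr fun k w hw =>
      (Submodule.mem_dualCoannihilator _).mp hw χ k) t ((Submodule.mem_dualCoannihilator _).mpr hφ)
      fun w hw => (Submodule.mem_dualCoannihilator _).mp hw _ hv).symm

theorem comp_inv (hW : Comp H W) : ∀ χ u, Tv H χ u → u ∈ W ∨ ∀ w ∈ W, χ w = 0 := by
  rcases hW with rfl | ⟨φ, v, -, -, -, rfl⟩
  · intro χ u _; right; simp
  · exact h.ts.inv v

theorem comp_stab (hW : Comp H W) : H ≤ stab W := h.le_stab (h.comp_inv hW)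

theorem comp_eq (hW : Comp H W) {χ : Dual F V} {u : V} (t : Tv H χ u) (χ0 : χ ≠ 0) (u0 : u ≠ 0)
    (hu : u ∈ W) : W = Wv LinearMap.id (Tv H) u := by
  rcases hW with rfl | ⟨φ, v, t1, p1, -, rfl⟩
  · exact absurd hu u0
  · exact (h.ts.Wv_eq t1 p1 t χ0 u0 hu).symm

theorem comp_axis (hW : Comp H W) {u : V} (u0 : u ≠ 0) (hu : u ∈ W) : ∃ χ, χ ≠ 0 ∧ Tv H χ u := by
  rcases hW with rfl | ⟨φ, v, t1, p1, -, rfl⟩
  · exact absurd hu u0
  · exact h.ts.exists_axis t1 p1 hu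

theorem comp_le_CW (hW : Comp H W) (hW' : Comp H W') (hne : W ≠ W') : W' ≤ CW H W := by
  intro x hx χ u t hu
  by_contra hn
  have χ0 : χ ≠ 0 := by rintro rfl; simp at hn
  have u0 : u ≠ 0 := by rintro rfl; simp at hn
  rcases h.comp_inv hW' χ u t with k | k
  · exact hne ((h.comp_eq hW t χ0 u0 hu).trans (h.comp_eq hW' t χ0 u0 k).symm)
  · simp [k x hx] at hn

theorem comp_disj (hW : Comp H W) {x : V} (hx : x ∈ W) (hx' : x ∈ CW H W) : x = 0 := by
  by_contra x0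
  obtain ⟨ρ, ρ0, t⟩ := h.comp_axis hW x0 hx
  obtain ⟨χ, u, t1, e1, e2⟩ := h.ts.partner t ρ0 x0
  exact smul_ne_zero e1 (by rintro rfl; simp at e2)
    (hx' χ u t1 (by rw [h.comp_eq hW t ρ0 x0 hx]; exact adj_mem_Wv t1 e1))

theorem comp_sup (hW : Comp H W) (x : V) : ∃ w ∈ W, x - w ∈ CW H W := by
  rcases hW with rfl | ⟨φ, v, t1, p1, p2, rfl⟩
  · exact ⟨0, Submodule.zero_mem _, fun χ u _ hu => by rw [(Submodule.mem_bot F).mp hu, smul_zero]⟩
  obtain ⟨w, hw, e⟩ := h.ts.flip.rep t1 p2 p1 ((Dual.eval F V x).domRestrict _)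
  refine ⟨w, hw, fun χ u t hu => ?_⟩
  by_cases χ0 : χ = 0
  · simp [χ0]
  by_cases u0 : u = 0
  · simp [u0]
  have : χ w = χ x := e ⟨χ, h.ts.link t1 p1 p2 t χ0 u0 hu⟩
  rw [map_sub, this, sub_self, zero_smul]

theorem iSup_KW {ι : Type*} (e : ι → Submodule F V) (he : ∀ W, Comp H W → ∃ i, e i = W) :
    ⨆ i, KW H (e i) = H := by
  refine le_antisymm (iSup_le fun i => KW_le) (h.gen.trans ((Subgroup.closure_le _).mpr ?_))
  rintro g ⟨χ, u, t, -, k⟩
  by_cases c : χ = 0 ∨ u = 0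
  · rw [show g = 1 from LinearEquiv.ext fun x => by rcases c with c | c <;> simp [k, c]]
    exact one_mem _
  push Not at c
  obtain ⟨i, hi⟩ := he _ (Or.inr ⟨χ, u, t, c.1, c.2, rfl⟩)
  exact Subgroup.mem_iSup_of_mem i (Subgroup.subset_closure ⟨χ, u, t, hi ▸ self_mem_Wv u, k⟩)

/-- the action of `KW H W` on `W` -/
def rho (hW : Comp H W) : KW H W →* (W ≃ₗ[F] W) :=
  (res W).comp (Subgroup.inclusion ((KW_le (H := H) (W := W)).trans (h.comp_stab hW)))

theorem range_ind (hW : Comp H W) (L : Subgroup (W ≃ₗ[F] W))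
    (hL : ∀ χ (u : W), Tv H χ u → ∀ g : W ≃ₗ[F] W, (∀ x, g x = x + χ x • u) → g ∈ L) :
    (h.rho hW).range ≤ L := by
  rintro _ ⟨⟨g, hg⟩, rfl⟩
  induction hg using Subgroup.closure_induction with
  | mem g hg =>
    obtain ⟨χ, u, t, hu, e⟩ := hg
    exact hL χ ⟨u, hu⟩ t _ fun x => Subtype.ext (e x)
  | one => exact (map_one (h.rho hW)).symm ▸ one_mem L
  | mul a b ha hb iha ihb =>
    rw [show (⟨a * b, mul_mem ha hb⟩ : KW H W) = ⟨a, ha⟩ * ⟨b, hb⟩ from rfl, map_mul]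
    exact mul_mem iha ihb
  | inv a ha iha =>
    rw [show (⟨a⁻¹, inv_mem ha⟩ : KW H W) = ⟨a, ha⟩⁻¹ from rfl, map_inv]
    exact inv_mem iha

theorem range_tv (hW : Comp H W) {χ : Dual F V} {u : W} (t : Tv H χ u) :
    HasTv (h.rho hW).range
      (χ.domRestrict W) u := by
  obtain ⟨g, -, e⟩ := t.2
  exact ⟨_, ⟨⟨g, Subgroup.subset_closure ⟨χ, u, t, u.2, e⟩⟩, rfl⟩, fun x => Subtype.ext (e x)⟩

theorem range_SL (hW : Comp H W) : (h.rho hW).range ≤ SLV F W :=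
  h.range_ind hW (SLV F W) fun χ _ t _ e => mem_SLV_of_tv (φ := χ.domRestrict W) t.1 e

theorem range_sl (hW : Comp H W) {φ ψ : Dual F V} {v w : V} (t1 : Tv H φ v) (t2 : Tv H ψ w)
    (p1 : φ ≠ 0) (p2 : w ≠ 0) (p3 : w ∈ W) (p4 : φ w = 0) (p5 : ψ v ≠ 0) :
    (h.rho hW).range = SLV F W := by
  have ψ0 : ψ ≠ 0 := by rintro rfl; simp at p5
  obtain rfl := h.comp_eq hW t2 ψ0 p2 p3
  refine le_antisymm (h.range_SL hW) (SLV_le_of_tv fun f y e => ?_)
  obtain ⟨ρ, hρ, k⟩ := h.ts.rep t2 ψ0 p2 f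
  have := h.range_tv hW (h.ts.sl_case t2 ψ0 p2 t1 t2 p1 p2 p3 p4 p5 y.2 ρ hρ ((k y).trans e))
  rwa [show ρ.domRestrict _ = f from LinearMap.ext k] at this

theorem range_sp (hW : Comp H W) (B : LinearMap.BilinForm F W)
    (hB : ∀ ψ (v : W), Tv H ψ v → ψ ≠ 0 → v ≠ 0 → ∃ c : F, c ≠ 0 ∧ ∀ u : W, B v u = c * ψ u) :
    B.IsAlt ∧ B.Nondegenerate ∧ (h.rho hW).range = isoB B := by
  have ax : ∀ v : W, v ≠ 0 → ∃ ψ, ψ ≠ 0 ∧ Tv H ψ v ∧ ∃ c : F, c ≠ 0 ∧
      ∀ u, B v u = c * ψ u := fun v v0 => by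
    obtain ⟨ψ, ψ0, t⟩ := h.comp_axis hW (fun e => v0 (Subtype.ext e)) v.2
    exact ⟨ψ, ψ0, t, hB ψ v t ψ0 v0⟩
  have hA : B.IsAlt := fun v => by
    by_cases e : v = 0
    · simp [e]
    obtain ⟨ψ, -, t, c, -, k⟩ := ax v e
    rw [k, t.1, mul_zero]
  have hN : ∀ x, (∀ y, B x y = 0) → x = 0 := fun x hx => by
    by_contra e
    obtain ⟨ψ, ψ0, t, c, c0, k⟩ := ax x e
    exact (h.rad W (h.comp_inv hW) t x.2 fun y hy =>
      (mul_eq_zero.mp ((k ⟨y, hy⟩).symm.trans (hx _))).resolve_left c0).elim ψ0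
      fun e' => e (Subtype.ext e')
  refine ⟨hA, ⟨hN, fun y hy => hN y fun x => by rw [← hA.neg_eq, hy, neg_zero]⟩,
    le_antisymm (h.range_ind hW _ fun χ u t g e x y => ?_)
      fun g => sp_le_of_tv B hA hN fun v c => ?_⟩
  · by_cases c : χ = 0 ∨ u = 0
    · rcases c with c | c <;> simp [e, c]
    push Not at c
    obtain ⟨c, -, k⟩ := hB χ u t c.1 c.2
    simp only [e, map_add, map_smul, LinearMap.add_apply, LinearMap.smul_apply, hA.self_eq_zero,
      ← hA.neg_eq u x, k, smul_eq_mul]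
    ring
  · by_cases e : v = 0
    · rw [e, smul_zero]; exact hasTv_zero_right _
    obtain ⟨ψ, -, t, d, -, k⟩ := ax v e
    exact (h.range_tv hW (u := c • v) (h.ts.smul_r c (h.ts.smul_l d t))).congr fun x => by
      rw [k]; rfl

theorem range_cases (hW : Comp H W) : (h.rho hW).range = SLV F W ∨
    ∃ B : LinearMap.BilinForm F W, B.IsAlt ∧ B.Nondegenerate ∧ (h.rho hW).range = isoB B := by
  by_cases c : ∀ φ v ψ w, Tv H φ v → Tv H ψ w → φ ≠ 0 → w ≠ 0 → w ∈ W → φ w = 0 → ψ v = 0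
  swap
  · push Not at c
    obtain ⟨φ, v, ψ, w, t1, t2, p1, p2, p3, p4, p5⟩ := c
    exact Or.inl (h.range_sl hW t1 t2 p1 p2 p3 p4 p5)
  rcases id hW with rfl | ⟨φ0, v0, t0, p1, p2, rfl⟩
  · exact Or.inl (le_antisymm (h.range_SL hW) fun g _ => by
      rw [show g = 1 from LinearEquiv.ext fun x => Subsingleton.elim _ _]; exact one_mem _)
  obtain ⟨B, hB⟩ := h.ts.sp_case h.two t0 p1 p2 c
  exact Or.inr ⟨B, h.range_sp hW B hB⟩

end Hyp

end Cfsg.Agent.McL
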